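import Mathlib
import Groth.Prelude.Def_DRing2
import Groth.Prelude.Def_CAlg
import Groth.Agent.H87.TorCI_CMR
import Groth.Agent.H87.TorCI_SP
import Groth.Agent.H35.TorCI_TT
import Groth.Agent.H35.TorCI_RT

/-! The commutative-algebra pieces for S15825, proved by helper87 (CMR, SP) and helper35
(TL, TT, TK, RT), re-exported under one namespace. -/

set_option autoImplicit false
universe u
open RingTheory.Sequence

namespace Groth.Agent.H59.TorCI

/-- (CMR) in a Cohen–Macaulay local ring a list of elements of the maximal ideal generating an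
ideal all of whose primes have height at least the length is a (weakly) regular sequence. -/
theorem isWeaklyRegular_of_height {R : Type u} [CommRing R] [LocCoh.IsCohenMacaulayLocalRing R]
    (l : List R) (hm : ∀ r ∈ l, r ∈ IsLocalRing.maximalIdeal R)
    (hht : ∀ 𝔮 : Ideal R, 𝔮.IsPrime → Ideal.ofList l ≤ 𝔮 → (l.length : ℕ∞) ≤ 𝔮.height) :
    IsWeaklyRegular R l :=
  Groth.Agent.H87.TorCI_CMR.isWeaklyRegular_of_height l hm hht

/-- (RT) Tor of two quotients which are locally cut out by sequences in general position. -/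
theorem subsingleton_tor_quotient {A : Type u} [CommRing A] (I J : Ideal A)
    (h : ∀ (𝔭 : Ideal A) [𝔭.IsPrime], I ⊔ J ≤ 𝔭 →
      ∃ (R : Type u) (_ : CommRing R) (_ : Algebra A R) (_ : IsLocalization.AtPrime R 𝔭)
        (f g : List R), IsWeaklyRegular R f ∧ IsWeaklyRegular R (g ++ f) ∧
        I.map (algebraMap A R) = Ideal.ofList f ∧ J.map (algebraMap A R) = Ideal.ofList g)
    (i : ℕ) (hi : 0 < i) : Subsingleton (DRing.Tor A i (A ⧸ I) (A ⧸ J)) :=
  Groth.Agent.H35.TorCI_RT.subsingleton_tor_quotient I J h i hi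

/-- (TT) transport of Tor along surjections. -/
theorem subsingleton_tor_of_surjective {A B C : Type u} [CommRing A] [CommRing B] [CommRing C]
    (φ : A →+* B) (ψ : A →+* C) (hφ : Function.Surjective φ) (hψ : Function.Surjective ψ) (i : ℕ)
    (h : Subsingleton (DRing.Tor A i (A ⧸ RingHom.ker φ) (A ⧸ RingHom.ker ψ))) :
    Subsingleton (@DRing.Tor A _ i B C _ φ.toModule _ ψ.toModule) :=
  Groth.Agent.H35.TorCI_TT.subsingleton_tor_of_surjective φ ψ hφ hψ i h

/-- (SP) a sequence which is weakly regular in the localization at a prime of a Noetherian ring is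
weakly regular over a basic open neighbourhood. -/
theorem exists_away_isWeaklyRegular {A : Type u} [CommRing A] [IsNoetherianRing A] (𝔭 : Ideal A)
    [𝔭.IsPrime] (R : Type u) [CommRing R] [Algebra A R] [IsLocalization.AtPrime R 𝔭] (rs : List A)
    (h : IsWeaklyRegular R (rs.map (algebraMap A R))) :
    ∃ c : A, c ∉ 𝔭 ∧ ∀ (B : Type u) [CommRing B] [Algebra A B] [IsLocalization.Away c B],
      IsWeaklyRegular B (rs.map (algebraMap A B)) :=
  Groth.Agent.H87.TorCI_SP.exists_away_isWeaklyRegular 𝔭 R rs h

end Groth.Agent.H59.TorCI
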