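import Groth.Agent.H59.RegImmDesc
import Groth.Agent.H59.TorCI.Pieces

/-!
# helper59: scheme-level assembly for S15825 (intersection of two regular immersions in a
Cohen–Macaulay scheme)
-/

set_option autoImplicit false
set_option linter.unusedSectionVars false
set_option linter.unusedVariables false
set_option linter.style.haveILetI false
universe u

open CategoryTheory CategoryTheory.Limits AlgebraicGeometry TopologicalSpace Opposite
open RingTheory.Sequence
open Groth.Agent.H56.RegImmComp Groth.Agent.H59.RegImmDesc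

noncomputable section

namespace Groth.Agent.H59.TorCI

variable {X Y Z : Scheme.{u}}

lemma restrict_closedImm {Z' : Scheme.{u}} (i : Z' ⟶ X) [IsClosedImmersion i] (U : X.Opens) :
    IsClosedImmersion (i ∣_ U) :=
  IsZariskiLocalAtTarget.restrict ‹_› U

lemma ker_app_congr {W : Scheme.{u}} {f g : W ⟶ X} (h : f = g) (U : X.Opens) :
    RingHom.ker (f.app U).hom = RingHom.ker (g.app U).hom := by
  subst h; rfl

section KSum

variable (iY : Y ⟶ X) (iZ : Z ⟶ X) [IsClosedImmersion iY] [IsClosedImmersion iZ]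

/-- the closed immersion of the intersection. -/
abbrev wInt : pullback iY iZ ⟶ X := pullback.fst iY iZ ≫ iY

instance : IsClosedImmersion (wInt iY iZ) := by
  unfold wInt; infer_instance

/-- the ideal of the intersection is the sum of the ideals. -/
theorem ker_wInt (U : X.Opens) (hU : IsAffineOpen U) :
    RingHom.ker ((wInt iY iZ).app U).hom =
      RingHom.ker (iY.app U).hom ⊔ RingHom.ker (iZ.app U).hom := by
  have hclY := restrict_closedImm iY U
  have hclZ := restrict_closedImm iZ U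
  have hV : IsAffineOpen (iZ ⁻¹ᵁ U) := isAffineOpen_preimage iZ hU hclZ
  have hsurj : Function.Surjective (iZ.app U).hom := app_surjective iZ hU hclZ
  obtain ⟨-, hker⟩ := closedImm_and_ker_of_isPullback iY iZ (pullback.snd iY iZ)
    (pullback.fst iY iZ) (IsPullback.of_hasPullback iY iZ) hU hclY hV le_rfl
  rw [Scheme.Hom.appLE_eq_app] at hker
  rw [ker_app_congr (show wInt iY iZ = pullback.snd iY iZ ≫ iZ from pullback.condition) U]
  have h2 : ∀ a, ((pullback.snd iY iZ ≫ iZ).app U).hom a =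
      ((pullback.snd iY iZ).app (iZ ⁻¹ᵁ U)).hom ((iZ.app U).hom a) := fun a => by
    rw [Scheme.Hom.comp_app]; rfl
  ext a
  have e1 : a ∈ RingHom.ker ((pullback.snd iY iZ ≫ iZ).app U).hom ↔
      (iZ.app U).hom a ∈ RingHom.ker ((pullback.snd iY iZ).app (iZ ⁻¹ᵁ U)).hom :=
    ⟨fun h => RingHom.mem_ker.mpr ((h2 a).symm.trans (RingHom.mem_ker.mp h)),
     fun h => RingHom.mem_ker.mpr ((h2 a).trans (RingHom.mem_ker.mp h))⟩
  rw [e1, hker, ← Ideal.mem_comap, Ideal.comap_map_of_surjective _ hsurj,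
    ← RingHom.ker_eq_comap_bot]

end KSum

section Stalk

variable {Z' : Scheme.{u}} (i : Z' ⟶ X) [IsClosedImmersion i]

/-- the ideal of `i` in the stalk at `x`, computed from a neighbourhood `U`. -/
def stalkIdeal (x : X) (U : X.Opens) (hx : x ∈ U) : Ideal (X.presheaf.stalk x) :=
  (RingHom.ker (i.app U).hom).map (X.presheaf.germ U x hx).hom

lemma stalkIdeal_congr {U V : X.Opens} (h : U = V) (x : X) (hx : x ∈ U) :
    stalkIdeal i x U hx = stalkIdeal i x V (h ▸ hx) := by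
  subst h; rfl

lemma stalkIdeal_basicOpen (x : X) (U : X.Opens) (hU : IsAffineOpen U) (c : Γ(X, U))
    (hx : x ∈ X.basicOpen c) :
    stalkIdeal i x (X.basicOpen c) hx = stalkIdeal i x U (X.basicOpen_le c hx) := by
  unfold stalkIdeal
  rw [ker_basicOpen i hU (restrict_closedImm i U) c, Ideal.map_map]
  congr 1
  refine RingHom.ext fun a => ?_
  exact TopCat.Presheaf.germ_res_apply X.presheaf (homOfLE (X.basicOpen_le c)) x hx a

lemma stalkIdeal_indep (x : X) (U V : X.Opens) (hU : IsAffineOpen U) (hV : IsAffineOpen V)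
    (hxU : x ∈ U) (hxV : x ∈ V) : stalkIdeal i x U hxU = stalkIdeal i x V hxV := by
  obtain ⟨b, c, hbc, hxb⟩ := exists_basicOpen_le_affine_inter hU hV x ⟨hxU, hxV⟩
  rw [← stalkIdeal_basicOpen i x U hU b hxb, ← stalkIdeal_basicOpen i x V hV c (hbc ▸ hxb)]
  exact stalkIdeal_congr i hbc x hxb

end Stalk

section Local

lemma germ_mem_maximalIdeal {Z' : Scheme.{u}} (i : Z' ⟶ X) (z : Z') (U : X.Opens) (hx : i z ∈ U)
    (s : Γ(X, U)) (hs : s ∈ RingHom.ker (i.app U).hom) :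
    (X.presheaf.germ U (i z) hx).hom s ∈ IsLocalRing.maximalIdeal (X.presheaf.stalk (i z)) := by
  by_contra h
  have hu : IsUnit ((X.presheaf.germ U (i z) hx).hom s) := by
    by_contra hnu
    exact h ((IsLocalRing.mem_maximalIdeal _).mpr hnu)
  have h1 : i z ∈ X.basicOpen s := (X.mem_basicOpen s (i z) hx).mpr hu
  have h2 : z ∈ i ⁻¹ᵁ X.basicOpen s := h1
  rw [Scheme.preimage_basicOpen, RingHom.mem_ker.mp hs, Scheme.basicOpen_zero] at h2
  exact h2

variable (iY : Y ⟶ X) (iZ : Z ⟶ X) [IsClosedImmersion iY] [IsClosedImmersion iZ]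

lemma stalkIdeal_le_maximalIdeal {Z' : Scheme.{u}} (i : Z' ⟶ X) [IsClosedImmersion i] (z : Z')
    (x : X) (hxz : i z = x) (U : X.Opens) (hx : x ∈ U) :
    stalkIdeal i x U hx ≤ IsLocalRing.maximalIdeal (X.presheaf.stalk x) := by
  subst hxz
  unfold stalkIdeal
  rw [Ideal.map_le_iff_le_comap]
  intro s hs
  exact germ_mem_maximalIdeal i z U hx s hs

/-- the height condition at the stalk, from the codimension hypothesis. -/
theorem le_height_of_le {a b : ℕ}
    (hcodim : ∀ w : ↥(pullback iY iZ), ((a + b : ℕ) : WithBot ℕ∞) ≤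
      ringKrullDim (X.presheaf.stalk ((pullback.fst iY iZ ≫ iY).base w)))
    (x : X) (U : X.Opens) (hU : IsAffineOpen U) (hx : x ∈ U)
    (𝔮 : Ideal (X.presheaf.stalk x)) [𝔮.IsPrime]
    (h𝔮 : stalkIdeal iY x U hx ⊔ stalkIdeal iZ x U hx ≤ 𝔮) : ((a + b : ℕ) : ℕ∞) ≤ 𝔮.height := by
  letI alg : Algebra Γ(X, U) (X.presheaf.stalk x) :=
    TopCat.Presheaf.algebra_section_stalk X.presheaf ⟨x, hx⟩
  haveI hloc : IsLocalization.AtPrime (X.presheaf.stalk x) (hU.primeIdealOf ⟨x, hx⟩).asIdeal :=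
    hU.isLocalization_stalk ⟨x, hx⟩
  have hht : (𝔮.under Γ(X, U)).height = 𝔮.height :=
    IsLocalization.height_under (hU.primeIdealOf ⟨x, hx⟩).asIdeal.primeCompl 𝔮
  have hle : RingHom.ker ((wInt iY iZ).app U).hom ≤ 𝔮.under Γ(X, U) := by
    rw [ker_wInt iY iZ U hU]
    refine sup_le ?_ ?_
    · exact (Ideal.le_comap_map).trans (Ideal.comap_mono (le_sup_left.trans h𝔮))
    · exact (Ideal.le_comap_map).trans (Ideal.comap_mono (le_sup_right.trans h𝔮))
  obtain ⟨w', hw'⟩ := exists_preimage_of_ker_le (wInt iY iZ) hU (restrict_closedImm _ U)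
    ⟨𝔮.under Γ(X, U), inferInstance⟩ hle
  have hx' : hU.fromSpec ⟨𝔮.under Γ(X, U), inferInstance⟩ ∈ U := by
    have : hU.fromSpec ⟨𝔮.under Γ(X, U), inferInstance⟩ ∈ Set.range hU.fromSpec := ⟨_, rfl⟩
    rw [hU.range_fromSpec] at this
    exact this
  have hdim := @IsLocalization.AtPrime.ringKrullDim_eq_height Γ(X, U) _ (𝔮.under Γ(X, U)) _
    (X.presheaf.stalk (hU.fromSpec ⟨𝔮.under Γ(X, U), inferInstance⟩)) _
    (TopCat.Presheaf.algebra_section_stalk X.presheaf ⟨_, hx'⟩)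
    (hU.isLocalization_stalk' ⟨𝔮.under Γ(X, U), inferInstance⟩ hx')
  have hc := hcodim w'
  have hw'' : (pullback.fst iY iZ ≫ iY).base w' =
      hU.fromSpec ⟨𝔮.under Γ(X, U), inferInstance⟩ := hw'
  rw [hw'', hdim, hht] at hc
  exact_mod_cast hc

/-- in the Cohen–Macaulay case any generating list of the right length of the ideal of the
intersection in the stalk is a regular sequence. -/
theorem isWeaklyRegular_stalk
    (hCM : ∀ x : X, LocCoh.IsCohenMacaulayLocalRing (X.presheaf.stalk x)) {a b : ℕ}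
    (hcodim : ∀ w : ↥(pullback iY iZ), ((a + b : ℕ) : WithBot ℕ∞) ≤
      ringKrullDim (X.presheaf.stalk ((pullback.fst iY iZ ≫ iY).base w)))
    (w : ↥(pullback iY iZ)) (x : X) (hxw : (wInt iY iZ) w = x)
    (U : X.Opens) (hU : IsAffineOpen U) (hx : x ∈ U)
    (l : List (X.presheaf.stalk x)) (hlen : l.length = a + b)
    (hl : Ideal.ofList l = stalkIdeal iY x U hx ⊔ stalkIdeal iZ x U hx) :
    IsWeaklyRegular (X.presheaf.stalk x) l := by
  haveI := hCM x
  have hY : iY ((pullback.fst iY iZ) w) = x := hxw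
  have hZ : iZ ((pullback.snd iY iZ) w) = x := by
    rw [← hxw]
    have := congrArg (fun φ => φ.base w) (pullback.condition (f := iY) (g := iZ))
    exact this.symm
  refine isWeaklyRegular_of_height l ?_ ?_
  · intro r hr
    have h1 : r ∈ Ideal.ofList l := Ideal.subset_span hr
    rw [hl] at h1
    exact (sup_le (stalkIdeal_le_maximalIdeal iY _ x hY U hx)
      (stalkIdeal_le_maximalIdeal iZ _ x hZ U hx)) h1
  · intro 𝔮 h𝔮 hle
    haveI := h𝔮
    rw [hl] at hle
    rw [hlen]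
    exact le_height_of_le iY iZ hcodim x U hU hx 𝔮 hle

end Local

section Gens

/-- generators of the stalk ideal of a regular immersion of codimension `a`. -/
theorem exists_stalk_gens {Z' : Scheme.{u}} (i : Z' ⟶ X) [IsClosedImmersion i] {a : ℕ}
    (hi : RegImm.IsRegularImmersionOfCodim RegImm.Kind.regular a i) (z : Z') (x : X)
    (hxz : i z = x) (U : X.Opens) (hU : IsAffineOpen U) (hx : x ∈ U) :
    ∃ f : List (X.presheaf.stalk x), f.length = a ∧ IsWeaklyRegular (X.presheaf.stalk x) f ∧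
      stalkIdeal i x U hx = Ideal.ofList f := by
  subst hxz
  obtain ⟨U₁, hxU₁, hcl, rs, hlen, hreg, hker⟩ := hi.2 z
  have hreg' : IsRegular Γ(X, U₁.1) rs := hreg
  letI alg : Algebra Γ(X, U₁.1) (X.presheaf.stalk (i z)) :=
    TopCat.Presheaf.algebra_section_stalk X.presheaf ⟨i z, hxU₁⟩
  haveI hloc : IsLocalization.AtPrime (X.presheaf.stalk (i z))
      (U₁.2.primeIdealOf ⟨i z, hxU₁⟩).asIdeal := U₁.2.isLocalization_stalk ⟨i z, hxU₁⟩
  haveI : Module.Flat Γ(X, U₁.1) (X.presheaf.stalk (i z)) :=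
    IsLocalization.flat _ (U₁.2.primeIdealOf ⟨i z, hxU₁⟩).asIdeal.primeCompl
  refine ⟨rs.map (algebraMap Γ(X, U₁.1) (X.presheaf.stalk (i z))), by rw [List.length_map, hlen],
    hreg'.toIsWeaklyRegular.of_flat, ?_⟩
  rw [stalkIdeal_indep i (i z) U U₁.1 hU U₁.2 hx hxU₁]
  unfold stalkIdeal
  rw [hker, Ideal.map_ofList]
  rfl

end Gens

section Main

variable (iY : Y ⟶ X) (iZ : Z ⟶ X) [IsClosedImmersion iY] [IsClosedImmersion iZ]

lemma fst_eq {w : ↥(pullback iY iZ)} {x : X} (hxw : (wInt iY iZ) w = x) :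
    iY ((pullback.fst iY iZ) w) = x := hxw

lemma snd_eq {w : ↥(pullback iY iZ)} {x : X} (hxw : (wInt iY iZ) w = x) :
    iZ ((pullback.snd iY iZ) w) = x := by
  rw [← hxw]
  have := congrArg (fun φ => φ.base w) (pullback.condition (f := iY) (g := iZ))
  exact this.symm

/-- Tor-independence of the intersection square over affine opens. -/
theorem tor_vanish (hCM : ∀ x : X, LocCoh.IsCohenMacaulayLocalRing (X.presheaf.stalk x)) {a b : ℕ}
    (hY : RegImm.IsRegularImmersionOfCodim RegImm.Kind.regular a iY)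
    (hZ : RegImm.IsRegularImmersionOfCodim RegImm.Kind.regular b iZ)
    (hcodim : ∀ w : ↥(pullback iY iZ), ((a + b : ℕ) : WithBot ℕ∞) ≤
      ringKrullDim (X.presheaf.stalk ((pullback.fst iY iZ ≫ iY).base w)))
    (U : X.Opens) (hU : IsAffineOpen U) (i : ℕ) (hi : 0 < i) :
    Subsingleton (@DRing.Tor Γ(X, U) _ i Γ(Y, iY ⁻¹ᵁ U) Γ(Z, iZ ⁻¹ᵁ U) _ (iY.app U).hom.toModule _
      (iZ.app U).hom.toModule) := by
  apply subsingleton_tor_of_surjective (iY.app U).hom (iZ.app U).hom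
    (app_surjective iY hU (restrict_closedImm iY U)) (app_surjective iZ hU (restrict_closedImm iZ U)) i
  apply subsingleton_tor_quotient _ _ ?_ i hi
  intro 𝔭 h𝔭 hle
  obtain ⟨w, hw⟩ := exists_preimage_of_ker_le (wInt iY iZ) hU (restrict_closedImm _ U) ⟨𝔭, h𝔭⟩
    (by rw [ker_wInt iY iZ U hU]; exact hle)
  have hx : hU.fromSpec ⟨𝔭, h𝔭⟩ ∈ U := by
    have : hU.fromSpec ⟨𝔭, h𝔭⟩ ∈ Set.range hU.fromSpec := ⟨_, rfl⟩
    rw [hU.range_fromSpec] at this
    exact this
  obtain ⟨f, hfl, hf, hIf⟩ := exists_stalk_gens iY hY _ _ (fst_eq iY iZ hw) U hU hx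
  obtain ⟨g, hgl, hg, hJg⟩ := exists_stalk_gens iZ hZ _ _ (snd_eq iY iZ hw) U hU hx
  refine ⟨X.presheaf.stalk (hU.fromSpec ⟨𝔭, h𝔭⟩), inferInstance,
    TopCat.Presheaf.algebra_section_stalk X.presheaf ⟨_, hx⟩,
    hU.isLocalization_stalk' ⟨𝔭, h𝔭⟩ hx, f, g, hf, ?_, hIf, hJg⟩
  refine isWeaklyRegular_stalk iY iZ hCM hcodim w _ hw U hU hx (g ++ f) ?_ ?_
  · rw [List.length_append, hfl, hgl, add_comm]
  · rw [Ideal.ofList_append, ← hIf, ← hJg, sup_comm]

/-- generators of the kernel over a basic open of an affine open on which it is generated. -/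
lemma exists_gens_basicOpen {Z' : Scheme.{u}} (i : Z' ⟶ X) [IsClosedImmersion i] {U : X.Opens}
    (hU : IsAffineOpen U) (rs : List Γ(X, U)) (hker : RingHom.ker (i.app U).hom = Ideal.ofList rs)
    (c : Γ(X, U)) :
    ∃ G : List Γ(X, X.basicOpen c), G.length = rs.length ∧
      RingHom.ker (i.app (X.basicOpen c)).hom = Ideal.ofList G :=
  ⟨rs.map (algebraMap Γ(X, U) Γ(X, X.basicOpen c)), List.length_map _,
    by rw [ker_basicOpen i hU (restrict_closedImm i U) c, hker, Ideal.map_ofList]⟩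

/-- local form: from generators over an affine neighbourhood. -/
theorem regImm_inter_aux [IsLocallyNoetherian X]
    (hCM : ∀ x : X, LocCoh.IsCohenMacaulayLocalRing (X.presheaf.stalk x)) {a b : ℕ}
    (hcodim : ∀ w : ↥(pullback iY iZ), ((a + b : ℕ) : WithBot ℕ∞) ≤
      ringKrullDim (X.presheaf.stalk ((pullback.fst iY iZ ≫ iY).base w)))
    (w₀ : ↥(pullback iY iZ)) (x : X) (hxw : (wInt iY iZ) w₀ = x)
    (V : X.Opens) (hV : IsAffineOpen V) (hxb : x ∈ V) (F G : List Γ(X, V))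
    (hFlen : F.length = a) (hGlen : G.length = b)
    (hF : RingHom.ker (iY.app V).hom = Ideal.ofList F)
    (hG : RingHom.ker (iZ.app V).hom = Ideal.ofList G) :
    ∃ U : X.affineOpens, (pullback.fst iY iZ ≫ iY) w₀ ∈ U.1 ∧
      IsClosedImmersion ((pullback.fst iY iZ ≫ iY) ∣_ U.1) ∧
      ∃ rs : List Γ(X, U.1), rs.length = a + b ∧ RegImm.Kind.regular.Seq Γ(X, U.1) rs ∧
        RingHom.ker ((pullback.fst iY iZ ≫ iY).app U.1).hom = Ideal.ofList rs := by
  haveI : IsNoetherianRing Γ(X, V) := IsLocallyNoetherian.component_noetherian ⟨V, hV⟩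
  letI alg : Algebra Γ(X, V) (X.presheaf.stalk x) :=
    TopCat.Presheaf.algebra_section_stalk X.presheaf ⟨x, hxb⟩
  haveI hloc : IsLocalization.AtPrime (X.presheaf.stalk x) (hV.primeIdealOf ⟨x, hxb⟩).asIdeal :=
    hV.isLocalization_stalk ⟨x, hxb⟩
  -- the sequence is regular in the stalk
  have hreg : IsWeaklyRegular (X.presheaf.stalk x)
      ((F ++ G).map (algebraMap Γ(X, V) (X.presheaf.stalk x))) := by
    refine isWeaklyRegular_stalk iY iZ hCM hcodim w₀ x hxw V hV hxb _ ?_ ?_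
    · rw [List.length_map, List.length_append, hFlen, hGlen]
    · rw [← Ideal.map_ofList, Ideal.ofList_append, Ideal.map_sup, ← hF, ← hG]
      rfl
  obtain ⟨c, hc, hB⟩ := exists_away_isWeaklyRegular (hV.primeIdealOf ⟨x, hxb⟩).asIdeal
    (X.presheaf.stalk x) (F ++ G) hreg
  have hxc : x ∈ X.basicOpen c := by
    rw [X.mem_basicOpen c x hxb]
    exact IsLocalization.map_units (X.presheaf.stalk x)
      (⟨c, hc⟩ : (hV.primeIdealOf ⟨x, hxb⟩).asIdeal.primeCompl)
  have hUaff : IsAffineOpen (X.basicOpen c) := hV.basicOpen c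
  haveI : IsLocalization.Away c Γ(X, X.basicOpen c) := hV.isLocalization_basicOpen c
  have hkerU : RingHom.ker ((pullback.fst iY iZ ≫ iY).app (X.basicOpen c)).hom =
      Ideal.ofList ((F ++ G).map (algebraMap Γ(X, V) Γ(X, X.basicOpen c))) := by
    have h1 := ker_wInt iY iZ (X.basicOpen c) hUaff
    rw [ker_basicOpen iY hV (restrict_closedImm iY V) c,
      ker_basicOpen iZ hV (restrict_closedImm iZ V) c, hF, hG, ← Ideal.map_sup,
      ← Ideal.ofList_append, Ideal.map_ofList] at h1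
    exact h1
  refine ⟨⟨X.basicOpen c, hUaff⟩, hxw ▸ hxc, restrict_closedImm _ _,
    (F ++ G).map (algebraMap Γ(X, V) Γ(X, X.basicOpen c)), ?_, ?_, hkerU⟩
  · rw [List.length_map, List.length_append, hFlen, hGlen]
  · show IsRegular Γ(X, X.basicOpen c) _
    refine ⟨hB Γ(X, X.basicOpen c), ?_⟩
    rw [smul_eq_mul, Ideal.mul_top, ← hkerU]
    intro htop
    have hw₀ : w₀ ∈ (pullback.fst iY iZ ≫ iY) ⁻¹ᵁ X.basicOpen c := by
      show (wInt iY iZ) w₀ ∈ X.basicOpen c
      rw [hxw]; exact hxc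
    haveI : Nonempty ↥((pullback.fst iY iZ ≫ iY) ⁻¹ᵁ X.basicOpen c) := ⟨⟨w₀, hw₀⟩⟩
    have h1 : (1 : Γ(X, X.basicOpen c)) ∈
        RingHom.ker ((pullback.fst iY iZ ≫ iY).app (X.basicOpen c)).hom := by
      rw [← htop]; trivial
    rw [RingHom.mem_ker, map_one] at h1
    exact one_ne_zero h1

/-- the intersection is a regular immersion of codimension `a + b`. -/
theorem regImm_inter [IsLocallyNoetherian X]
    (hCM : ∀ x : X, LocCoh.IsCohenMacaulayLocalRing (X.presheaf.stalk x)) {a b : ℕ}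
    (hY : RegImm.IsRegularImmersionOfCodim RegImm.Kind.regular a iY)
    (hZ : RegImm.IsRegularImmersionOfCodim RegImm.Kind.regular b iZ)
    (hcodim : ∀ w : ↥(pullback iY iZ), ((a + b : ℕ) : WithBot ℕ∞) ≤
      ringKrullDim (X.presheaf.stalk ((pullback.fst iY iZ ≫ iY).base w))) :
    RegImm.IsRegularImmersionOfCodim RegImm.Kind.regular (a + b) (pullback.fst iY iZ ≫ iY) := by
  refine ⟨inferInstance, fun w₀ => ?_⟩
  obtain ⟨x, hxw⟩ : ∃ x, (wInt iY iZ) w₀ = x := ⟨_, rfl⟩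
  obtain ⟨U₁, hxU₁, -, rs₁, hlen₁, -, hker₁⟩ := hY.2 ((pullback.fst iY iZ) w₀)
  obtain ⟨U₂, hxU₂, -, rs₂, hlen₂, -, hker₂⟩ := hZ.2 ((pullback.snd iY iZ) w₀)
  rw [fst_eq iY iZ hxw] at hxU₁
  rw [snd_eq iY iZ hxw] at hxU₂
  obtain ⟨b₁, b₂, hbb, hxb⟩ := exists_basicOpen_le_affine_inter U₁.2 U₂.2 x ⟨hxU₁, hxU₂⟩
  obtain ⟨F, hFlen, hF⟩ := exists_gens_basicOpen iY U₁.2 rs₁ hker₁ b₁
  obtain ⟨G, hGlen, hG⟩ : ∃ G : List Γ(X, X.basicOpen b₁), G.length = rs₂.length ∧
      RingHom.ker (iZ.app (X.basicOpen b₁)).hom = Ideal.ofList G := by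
    rw [hbb]
    exact exists_gens_basicOpen iZ U₂.2 rs₂ hker₂ b₂
  exact regImm_inter_aux iY iZ hCM hcodim w₀ x hxw (X.basicOpen b₁) (U₁.2.basicOpen b₁) hxb F G
    (hFlen.trans hlen₁) (hGlen.trans hlen₂) hF hG

end Main

end Groth.Agent.H59.TorCI
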